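/-
A normal `p`-complement from a bound on the `p`-parts of class sizes.

`p` the smallest prime divisor of `#G`, and `p²` divides no conjugacy class size.  Then `G` has a
normal `p`-complement.  The proof counts the `G`-classes of `p`-elements in two ways: the number
of `p`-elements commuting with `g` is at least `#P / p` for every `g`, so (Burnside's lemma)
there are more than `#P / p` such classes, while a `q`-element acting nontrivially on a `p`-subgroup
containing `Z(P)` fuses enough classes to leave at most `#P / p`.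
-/
import Mathlib
import Cfsg.Prelude.Def_Transfer
import Cfsg.Agent.Lib.Transfer.Frobenius

set_option autoImplicit false
set_option linter.unusedSectionVars false
set_option linter.style.longLine false
set_option linter.style.haveILetI false

namespace Cfsg.Agent.Lib.SqfClass.PNilp

open Subgroup Cfsg

/-- Choosing representatives: if each class of an equivalence inside the finite set `s` has at least
`m` elements of `s`, there is a set of representatives of size at most `#s / m`. -/
theorem exists_reps {α : Type*} [DecidableEq α] (r : α → α → Prop) (hrs : ∀ {a b}, r a b → r b a)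
    (hrt : ∀ {a b c}, r a b → r b c → r a c) (hrr : ∀ a, r a a) [DecidableRel r] (m : ℕ) (s : Finset α)
    (hm : ∀ x ∈ s, m ≤ (s.filter (r x)).card) :
    ∃ R : Finset α, R ⊆ s ∧ (∀ x ∈ s, ∃ t ∈ R, r x t) ∧ m * R.card ≤ s.card := by
  induction s using Finset.strongInduction with
  | H s ih =>
  rcases s.eq_empty_or_nonempty with rfl | ⟨x, hx⟩
  · exact ⟨∅, by simp, by simp, by simp⟩
  set C := s.filter (r x) with hC
  have hCs : C ⊆ s := Finset.filter_subset _ _
  have hxC : x ∈ C := Finset.mem_filter.2 ⟨hx, hrr x⟩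
  set s' := s \ C with hs'
  have hss : s' ⊂ s := by
    refine Finset.ssubset_iff_subset_ne.2 ⟨Finset.sdiff_subset, ?_⟩
    intro h
    have : x ∈ s' := h ▸ hx
    exact (Finset.mem_sdiff.1 this).2 hxC
  have hm' : ∀ t ∈ s', m ≤ (s'.filter (r t)).card := by
    intro t ht
    have h1 := hm t (Finset.mem_sdiff.1 ht).1
    have h2 : s'.filter (r t) = s.filter (r t) := by
      ext w
      simp only [Finset.mem_filter, hs', Finset.mem_sdiff, hC]
      constructor
      · rintro ⟨⟨h1, -⟩, h2⟩
        exact ⟨h1, h2⟩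
      · rintro ⟨h1, h2⟩
        refine ⟨⟨h1, ?_⟩, h2⟩
        rintro ⟨-, h3⟩
        have ht' := (Finset.mem_sdiff.1 ht).2
        exact ht' (Finset.mem_filter.2 ⟨(Finset.mem_sdiff.1 ht).1, hrt h3 (hrs h2)⟩)
    rwa [h2]
  obtain ⟨R, hRs, hRc, hRm⟩ := ih s' hss hm'
  refine ⟨insert x R, ?_, ?_, ?_⟩
  · exact Finset.insert_subset hx (hRs.trans Finset.sdiff_subset)
  · intro w hw
    by_cases hwC : w ∈ C
    · exact ⟨x, Finset.mem_insert_self _ _, hrs (Finset.mem_filter.1 hwC).2⟩
    · obtain ⟨t, ht, hr⟩ := hRc w (Finset.mem_sdiff.2 ⟨hw, hwC⟩)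
      exact ⟨t, Finset.mem_insert_of_mem ht, hr⟩
  · have h1 : (insert x R).card ≤ R.card + 1 := Finset.card_insert_le _ _
    have h2 : m ≤ C.card := hm x hx
    have h3 : s'.card + C.card = s.card := Finset.card_sdiff_add_card_eq_card hCs
    calc m * (insert x R).card ≤ m * (R.card + 1) := Nat.mul_le_mul_left _ h1
      _ = m * R.card + m := by ring
      _ ≤ s'.card + C.card := Nat.add_le_add hRm h2
      _ = s.card := h3

variable {G : Type*} [Group G]

/-- Conjugates of `x` under powers of an `r`-element `t` not commuting with `x`: the first `r` of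
them are distinct. -/
theorem conj_pow_injOn {r k : ℕ} (hr : r.Prime) {t x : G} (ht : t ^ r ^ k = 1) (hc : ¬ Commute t x) :
    Set.InjOn (fun i : ℕ => t ^ i * x * (t ^ i)⁻¹) (Finset.range r : Set ℕ) := by
  have key : ∀ i j : ℕ, i < j → j < r → t ^ i * x * (t ^ i)⁻¹ ≠ t ^ j * x * (t ^ j)⁻¹ := by
    intro i j hij hjr he
    apply hc
    set d := j - i with hd
    have hd0 : 0 < d := Nat.sub_pos_of_lt hij
    have hdr : d < r := lt_of_le_of_lt (Nat.sub_le _ _) hjr
    have hji : j = i + d := by omega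
    have hcd : Commute (t ^ d) x := by
      have h1 : t ^ j = t ^ i * t ^ d := by rw [hji, pow_add]
      rw [h1] at he
      have h2 : x * (t ^ i)⁻¹ * t ^ i = x := by group
      have h3 : x = t ^ d * x * (t ^ d)⁻¹ := by
        have h4 : (t ^ i)⁻¹ * (t ^ i * x * (t ^ i)⁻¹) * t ^ i = (t ^ i)⁻¹ * (t ^ i * t ^ d * x * (t ^ i * t ^ d)⁻¹) * t ^ i := by
          rw [he]
        have h5 : (t ^ i)⁻¹ * (t ^ i * x * (t ^ i)⁻¹) * t ^ i = x := by group
        have h6 : (t ^ i)⁻¹ * (t ^ i * t ^ d * x * (t ^ i * t ^ d)⁻¹) * t ^ i = t ^ d * x * (t ^ d)⁻¹ := by group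
        rw [h5, h6] at h4
        exact h4
      show t ^ d * x = x * t ^ d
      calc t ^ d * x = (t ^ d * x * (t ^ d)⁻¹) * t ^ d := by group
        _ = x * t ^ d := by rw [← h3]
    have hco : Nat.Coprime d (r ^ k) := by
      apply Nat.Coprime.pow_right
      exact (Nat.coprime_of_lt_prime hd0.ne' hdr hr).symm
    have hb := Nat.gcd_eq_gcd_ab d (r ^ k)
    rw [hco] at hb
    have ht' : t = (t ^ d) ^ (Nat.gcdA d (r ^ k)) := by
      have h1 : t ^ ((d : ℤ) * Nat.gcdA d (r ^ k) + ((r ^ k : ℕ) : ℤ) * Nat.gcdB d (r ^ k)) = t := by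
        rw [← hb]; simp
      rw [zpow_add, zpow_mul, zpow_mul] at h1
      have h2 : t ^ ((r ^ k : ℕ) : ℤ) = 1 := by rw [zpow_natCast]; exact ht
      rw [h2, one_zpow, mul_one, zpow_natCast] at h1
      exact h1.symm
    rw [ht']
    exact hcd.zpow_left _
  intro i hi j hj hij
  simp only [Finset.coe_range, Set.mem_Iio] at hi hj
  by_contra hne
  rcases lt_or_gt_of_ne hne with h | h
  · exact key i j h hj hij
  · exact key j i h hi hij.symm


section Count

variable [Finite G] (p : ℕ) [hp : Fact p.Prime]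

/-- `p`-elements. -/
def PElt (z : G) : Prop := ∃ k : ℕ, z ^ p ^ k = 1

theorem PElt.conj {z : G} (h : PElt p z) (g : G) : PElt p (g * z * g⁻¹) := by
  obtain ⟨k, hk⟩ := h
  refine ⟨k, ?_⟩
  rw [conj_pow, hk]; group

/-- Conjugation on the `p`-elements. -/
instance pEltAction : MulAction G {z : G // PElt p z} where
  smul g z := ⟨g * z.1 * g⁻¹, z.2.conj p g⟩
  one_smul z := by
    apply Subtype.ext
    show 1 * z.1 * 1⁻¹ = z.1
    group
  mul_smul a b z := by
    apply Subtype.ext
    show (a * b) * z.1 * (a * b)⁻¹ = a * (b * z.1 * b⁻¹) * a⁻¹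
    group

theorem smul_val (g : G) (z : {z : G // PElt p z}) : ((g • z : {z : G // PElt p z}) : G) = g * z.1 * g⁻¹ := rfl

theorem pElt_of_mem_sylow (P : Sylow p G) {z : G} (hz : z ∈ (P : Subgroup G)) : PElt p z := by
  obtain ⟨k, hk⟩ := P.isPGroup' ⟨z, hz⟩
  refine ⟨k, ?_⟩
  have := congrArg Subtype.val hk
  simpa using this

/-- Every `g` commutes with at least `#P / p` `p`-elements. -/
theorem card_sylow_le_fixed (P : Sylow p G) (g : G) (hg : ¬ p ^ 2 ∣ (centralizer ({g} : Set G)).index) :
    Nat.card P ≤ p * Nat.card (MulAction.fixedBy {z : G // PElt p z} g) := by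
  classical
  set C := centralizer ({g} : Set G) with hC
  obtain ⟨D⟩ : Nonempty (Sylow p C) := inferInstance
  have hD : Nat.card D = p ^ (Nat.card C).factorization p := D.card_eq_multiplicity
  have hP : Nat.card P = p ^ (Nat.card G).factorization p := P.card_eq_multiplicity
  have hmul : Nat.card G = Nat.card C * C.index := (Subgroup.card_mul_index C).symm
  have hC0 : Nat.card C ≠ 0 := Nat.card_pos.ne'
  have hI0 : C.index ≠ 0 := Subgroup.index_ne_zero_of_finite
  have hfac : (Nat.card G).factorization p = (Nat.card C).factorization p + C.index.factorization p := by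
    rw [hmul, Nat.factorization_mul hC0 hI0]; rfl
  have hle : C.index.factorization p ≤ 1 := by
    by_contra hlt
    rw [not_le] at hlt
    exact hg ((hp.out.pow_dvd_iff_le_factorization hI0).2 hlt)
  have h1 : Nat.card P ≤ p * Nat.card D := by
    rw [hP, hD, hfac]
    calc p ^ ((Nat.card C).factorization p + C.index.factorization p)
        ≤ p ^ ((Nat.card C).factorization p + 1) :=
          Nat.pow_le_pow_right hp.out.pos (by omega)
      _ = p * p ^ (Nat.card C).factorization p := by ring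
  refine h1.trans (Nat.mul_le_mul_left _ ?_)
  -- `D` injects into the fixed set
  have hpe : ∀ d : D, PElt p ((d : C) : G) := by
    intro d
    obtain ⟨k, hk⟩ := D.isPGroup' d
    refine ⟨k, ?_⟩
    have := congrArg (fun x : C => (x : G)) (congrArg Subtype.val hk)
    simpa using this
  let f : D → MulAction.fixedBy {z : G // PElt p z} g := fun d =>
    ⟨⟨((d : C) : G), hpe d⟩, by
      rw [MulAction.mem_fixedBy]
      apply Subtype.ext
      rw [smul_val]
      have hd : ((d : C) : G) ∈ C := (d : C).2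
      have : ((d : C) : G) * g = g * ((d : C) : G) := mem_centralizer_singleton_iff.1 hd
      show g * ((d : C) : G) * g⁻¹ = ((d : C) : G)
      rw [← this]; group⟩
  apply Nat.card_le_card_of_injective f
  intro a b hab
  have := congrArg (fun x => ((x : {z : G // PElt p z}) : G)) (congrArg Subtype.val hab)
  apply Subtype.ext
  apply Subtype.ext
  exact this

/-- Burnside's lemma: more than `#P / p` classes of `p`-elements. -/
theorem card_sylow_lt_orbits (P : Sylow p G) (h : ∀ x : G, ¬ p ^ 2 ∣ (centralizer ({x} : Set G)).index) :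
    Nat.card P < p * Nat.card (MulAction.orbitRel.Quotient G {z : G // PElt p z}) := by
  classical
  haveI : Fintype G := Fintype.ofFinite G
  haveI : Fintype {z : G // PElt p z} := Fintype.ofFinite _
  haveI : ∀ a : G, Fintype (MulAction.fixedBy {z : G // PElt p z} a) := fun _ => Fintype.ofFinite _
  haveI : Fintype (MulAction.orbitRel.Quotient G {z : G // PElt p z}) := Fintype.ofFinite _
  have hB := MulAction.sum_card_fixedBy_eq_card_orbits_mul_card_group G {z : G // PElt p z}
  have hlow : ∀ a : G, Nat.card P ≤ p * Fintype.card (MulAction.fixedBy {z : G // PElt p z} a) := by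
    intro a
    rw [← Nat.card_eq_fintype_card]
    exact card_sylow_le_fixed p P a (h a)
  have hone : Nat.card P < p * Fintype.card (MulAction.fixedBy {z : G // PElt p z} (1 : G)) := by
    rw [← Nat.card_eq_fintype_card]
    have h2 : Nat.card P ≤ Nat.card (MulAction.fixedBy {z : G // PElt p z} (1 : G)) := by
      let f : P → MulAction.fixedBy {z : G // PElt p z} (1 : G) := fun d =>
        ⟨⟨(d : G), pElt_of_mem_sylow p P d.2⟩, by simp [MulAction.mem_fixedBy]⟩
      apply Nat.card_le_card_of_injective f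
      intro a b hab
      have := congrArg (fun x => ((x : {z : G // PElt p z}) : G)) (congrArg Subtype.val hab)
      exact Subtype.ext this
    have h3 : 0 < Nat.card P := Nat.card_pos
    have h4 : 2 ≤ p := hp.out.two_le
    calc Nat.card P < 2 * Nat.card P := by omega
      _ ≤ p * Nat.card (MulAction.fixedBy {z : G // PElt p z} (1 : G)) := Nat.mul_le_mul h4 h2
  have hsum : ∑ _a : G, Nat.card P < ∑ a : G, p * Fintype.card (MulAction.fixedBy {z : G // PElt p z} a) :=
    Finset.sum_lt_sum (fun a _ => hlow a) ⟨1, Finset.mem_univ _, hone⟩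
  rw [← Finset.mul_sum, hB, Finset.sum_const, Finset.card_univ, smul_eq_mul] at hsum
  have hpos : 0 < Fintype.card G := Fintype.card_pos
  rw [Nat.card_eq_fintype_card (α := MulAction.orbitRel.Quotient G {z : G // PElt p z})]
  have : Fintype.card G * Nat.card P < Fintype.card G * (p * Fintype.card (MulAction.orbitRel.Quotient G {z : G // PElt p z})) := by
    calc Fintype.card G * Nat.card P < p * (Fintype.card (MulAction.orbitRel.Quotient G {z : G // PElt p z}) * Fintype.card G) := hsum
      _ = _ := by ring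
  exact Nat.lt_of_mul_lt_mul_left this


/-- Fusion by a `q`-element on `U ≥ Z(P)` leaves at most `#P / p` classes of `p`-elements. -/
theorem orbits_le (P : Sylow p G) (U : Subgroup G) (hUP : U ≤ (P : Subgroup G))
    (hZ : ∀ z ∈ (P : Subgroup G), (∀ s ∈ (P : Subgroup G), Commute s z) → z ∈ U)
    {q a : ℕ} (hq : q.Prime) (hpq : p < q) (y : G) (hya : y ^ q ^ a = 1)
    (hyN : y ∈ normalizer (U : Set G)) (hyC : y ∉ centralizer (U : Set G)) :
    p * Nat.card (MulAction.orbitRel.Quotient G {z : G // PElt p z}) ≤ Nat.card P := by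
  classical
  haveI : Fintype G := Fintype.ofFinite G
  haveI : Fact q.Prime := ⟨hq⟩
  have hp2 : 2 ≤ p := hp.out.two_le
  -- the basic finite sets
  let Pset : Finset G := Finset.univ.filter (· ∈ (P : Subgroup G))
  let Uset : Finset G := Finset.univ.filter (· ∈ U)
  let Fset : Finset G := Uset.filter (fun x => Commute y x)
  let Vset : Finset G := Uset.filter (fun x => ¬ Commute y x)
  let Wset : Finset G := Pset.filter (fun x => ∀ s ∈ (P : Subgroup G), s⁻¹ * x * s ∉ U)
  have hPcard : Pset.card = Nat.card P := by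
    rw [Nat.card_eq_fintype_card, Fintype.card_subtype]
  have hUcard : Uset.card = Nat.card U := by
    rw [Nat.card_eq_fintype_card, Fintype.card_subtype]
  -- conjugation by powers of `y`
  have hyzN : ∀ k : ℤ, y ^ k ∈ normalizer (U : Set G) := fun k => zpow_mem hyN k
  have hconjU : ∀ (k : ℤ) {x : G}, x ∈ U → y ^ k * x * (y ^ k)⁻¹ ∈ U := fun k x hx =>
    (mem_normalizer_iff.1 (hyzN k) x).1 hx
  have hconjC : ∀ (k : ℤ) {x : G}, ¬ Commute y x → ¬ Commute y (y ^ k * x * (y ^ k)⁻¹) := by
    intro k x hx hc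
    apply hx
    have h1 : Commute y (y ^ k) := (Commute.refl y).zpow_right k
    have h2 : x = (y ^ k)⁻¹ * (y ^ k * x * (y ^ k)⁻¹) * y ^ k := by group
    rw [h2]
    exact ((h1.inv_right).mul_right hc).mul_right h1
  -- representatives in `Vset`
  let ry : G → G → Prop := fun x x' => ∃ k : ℤ, y ^ k * x * (y ^ k)⁻¹ = x'
  have hry_s : ∀ {a b : G}, ry a b → ry b a := by
    rintro a b ⟨k, rfl⟩
    exact ⟨-k, by rw [zpow_neg]; group⟩
  have hry_t : ∀ {a b c : G}, ry a b → ry b c → ry a c := by
    rintro a b c ⟨k, rfl⟩ ⟨l, rfl⟩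
    exact ⟨l + k, by rw [zpow_add]; group⟩
  have hry_r : ∀ a : G, ry a a := fun a => ⟨0, by simp⟩
  have hVq : ∀ x ∈ Vset, q ≤ (Vset.filter (ry x)).card := by
    intro x hx
    have hxU : x ∈ U := (Finset.mem_filter.1 (Finset.mem_filter.1 hx).1).2
    have hxc : ¬ Commute y x := (Finset.mem_filter.1 hx).2
    have hinj := conj_pow_injOn hq hya hxc
    have himg : ((Finset.range q).image (fun i : ℕ => y ^ i * x * (y ^ i)⁻¹)) ⊆ Vset.filter (ry x) := by
      intro w hw
      obtain ⟨i, -, rfl⟩ := Finset.mem_image.1 hw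
      have hz : y ^ i = y ^ ((i : ℕ) : ℤ) := (zpow_natCast y i).symm
      refine Finset.mem_filter.2 ⟨Finset.mem_filter.2 ⟨Finset.mem_filter.2 ⟨Finset.mem_univ _, ?_⟩, ?_⟩, ?_⟩
      · rw [hz]; exact hconjU _ hxU
      · rw [hz]; exact hconjC _ hxc
      · exact ⟨i, by rw [hz]⟩
    have hc := Finset.card_le_card himg
    rwa [Finset.card_image_of_injOn hinj, Finset.card_range] at hc
  obtain ⟨R1, hR1s, hR1c, hR1m⟩ := exists_reps ry hry_s hry_t hry_r q Vset hVq
  -- representatives in `Wset`
  let rP : G → G → Prop := fun x x' => ∃ s ∈ (P : Subgroup G), s * x * s⁻¹ = x'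
  have hrP_s : ∀ {a b : G}, rP a b → rP b a := by
    rintro a b ⟨s, hs, rfl⟩
    exact ⟨s⁻¹, P.1.inv_mem hs, by group⟩
  have hrP_t : ∀ {a b c : G}, rP a b → rP b c → rP a c := by
    rintro a b c ⟨s, hs, rfl⟩ ⟨t, ht, rfl⟩
    exact ⟨t * s, P.1.mul_mem ht hs, by group⟩
  have hrP_r : ∀ a : G, rP a a := fun a => ⟨1, P.1.one_mem, by group⟩
  have hWinv : ∀ x ∈ Wset, ∀ s ∈ (P : Subgroup G), s * x * s⁻¹ ∈ Wset := by
    intro x hx s hs
    have hxP : x ∈ (P : Subgroup G) := (Finset.mem_filter.1 (Finset.mem_filter.1 hx).1).2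
    have hxW := (Finset.mem_filter.1 hx).2
    refine Finset.mem_filter.2 ⟨Finset.mem_filter.2 ⟨Finset.mem_univ _, ?_⟩, ?_⟩
    · exact P.1.mul_mem (P.1.mul_mem hs hxP) (P.1.inv_mem hs)
    · intro t ht
      have := hxW (s⁻¹ * t) (P.1.mul_mem (P.1.inv_mem hs) ht)
      have he : t⁻¹ * (s * x * s⁻¹) * t = (s⁻¹ * t)⁻¹ * x * (s⁻¹ * t) := by group
      rwa [he]
  have hWp : ∀ x ∈ Wset, p ≤ (Wset.filter (rP x)).card := by
    intro x hx
    have hxP : x ∈ (P : Subgroup G) := (Finset.mem_filter.1 (Finset.mem_filter.1 hx).1).2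
    have hxW := (Finset.mem_filter.1 hx).2
    have hnotU : x ∉ U := by
      have := hxW 1 P.1.one_mem
      simpa using this
    have : ¬ ∀ s ∈ (P : Subgroup G), Commute s x := fun hc => hnotU (hZ x hxP hc)
    simp only [not_forall] at this
    obtain ⟨s, hs, hsc⟩ := this
    obtain ⟨k, hk⟩ := pElt_of_mem_sylow p P hs
    have hinj := conj_pow_injOn hp.out hk hsc
    have himg : ((Finset.range p).image (fun i : ℕ => s ^ i * x * (s ^ i)⁻¹)) ⊆ Wset.filter (rP x) := by
      intro w hw
      obtain ⟨i, -, rfl⟩ := Finset.mem_image.1 hw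
      exact Finset.mem_filter.2 ⟨hWinv x hx _ (P.1.pow_mem hs i), ⟨s ^ i, P.1.pow_mem hs i, rfl⟩⟩
    have hc := Finset.card_le_card himg
    rwa [Finset.card_image_of_injOn hinj, Finset.card_range] at hc
  obtain ⟨R2, hR2s, hR2c, hR2m⟩ := exists_reps rP hrP_s hrP_t hrP_r p Wset hWp
  -- the arithmetic of `F` inside `U`
  have hUF : Fset.card + Vset.card = Uset.card := Finset.card_filter_add_card_filter_not _
  have hWU : Wset.card + Uset.card ≤ Pset.card := by
    rw [← Finset.card_union_of_disjoint]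
    · apply Finset.card_le_card
      apply Finset.union_subset (Finset.filter_subset _ _)
      intro x hx
      exact Finset.mem_filter.2 ⟨Finset.mem_univ _, hUP (Finset.mem_filter.1 hx).2⟩
    · rw [Finset.disjoint_left]
      intro x hxW hxU
      have := (Finset.mem_filter.1 hxW).2 1 P.1.one_mem
      apply this
      simpa using (Finset.mem_filter.1 hxU).2
  -- `F` is a subgroup of index at least `p²` in `U`
  let Fg : Subgroup U := (centralizer ({y} : Set G)).subgroupOf U
  have hFcard : Nat.card Fg = Fset.card := by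
    rw [Nat.card_congr (Equiv.refl _)]
    have : Fset.card = Nat.card {x : G // x ∈ Fset} := by
      rw [Nat.card_eq_fintype_card, Fintype.card_coe]
    rw [this]
    apply Nat.card_congr
    refine ⟨fun x => ⟨((x : U) : G), ?_⟩, fun x => ⟨⟨x.1, ?_⟩, ?_⟩, ?_, ?_⟩
    · refine Finset.mem_filter.2 ⟨Finset.mem_filter.2 ⟨Finset.mem_univ _, (x : U).2⟩, ?_⟩
      have h1 := Subgroup.mem_subgroupOf.1 x.2
      exact (mem_centralizer_singleton_iff.1 h1).symm
    · exact (Finset.mem_filter.1 (Finset.mem_filter.1 x.2).1).2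
    · apply Subgroup.mem_subgroupOf.2
      exact mem_centralizer_singleton_iff.2 (Finset.mem_filter.1 x.2).2.symm
    · intro x; rfl
    · intro x; rfl
  have hUp : IsPGroup p U := P.isPGroup'.to_le hUP
  obtain ⟨n, hn⟩ := hUp.index Fg
  have hUmul : Nat.card U = Nat.card Fg * p ^ n := by
    rw [← hn]; exact (Subgroup.card_mul_index Fg).symm
  have hFpos : 0 < Nat.card Fg := Nat.card_pos
  have hFp : IsPGroup p Fg := hUp.to_subgroup Fg
  -- the congruence modulo `q`
  let f : Function.End U := fun u => ⟨y * u * y⁻¹, by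
      have := hconjU 1 u.2
      simpa using this⟩
  have hfpow : ∀ (k : ℕ) (u : U), (((f ^ k) u : U) : G) = y ^ k * u * (y ^ k)⁻¹ := by
    intro k
    induction k with
    | zero =>
      intro u
      show (u : G) = _
      simp
    | succ k ih =>
      intro u
      rw [pow_succ']
      show y * (((f ^ k) u : U) : G) * y⁻¹ = _
      rw [ih u, pow_succ']
      group
  have hf1 : f ^ q ^ a = 1 := by
    funext u
    apply Subtype.ext
    rw [hfpow, hya]
    show _ = (u : G)
    simp
  haveI : Fintype U := Fintype.ofFinite U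
  haveI : Fintype (Function.fixedPoints f) := Fintype.ofFinite _
  have hmod := Equiv.Perm.card_fixedPoints_modEq (f := f) hf1
  have hfix : Fintype.card (Function.fixedPoints f) = Nat.card Fg := by
    rw [← Nat.card_eq_fintype_card]
    apply Nat.card_congr
    refine ⟨fun u => ⟨u.1, ?_⟩, fun u => ⟨u.1, ?_⟩, ?_, ?_⟩
    · apply Subgroup.mem_subgroupOf.2
      apply mem_centralizer_singleton_iff.2
      have h1 : (f u.1 : G) = (u.1 : G) := congrArg Subtype.val u.2
      have h2 : y * (u.1 : G) * y⁻¹ = u.1 := h1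
      calc (u.1 : G) * y = y * (u.1 : G) * y⁻¹ * y := by rw [h2]
        _ = y * u.1 := by group
    · have h1 := mem_centralizer_singleton_iff.1 (Subgroup.mem_subgroupOf.1 u.2)
      apply Subtype.ext
      show y * ((u.1 : U) : G) * y⁻¹ = _
      rw [← h1]
      group
    · intro u; rfl
    · intro u; rfl
  have hmod' : Nat.card U ≡ Nat.card Fg [MOD q] := by
    rw [← hfix, Nat.card_eq_fintype_card]
    convert hmod
  rw [hUmul] at hmod'
  have hnotq : ¬ q ∣ Nat.card Fg := by
    intro hd
    obtain ⟨k, hk⟩ := IsPGroup.iff_card.1 hFp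
    rw [hk] at hd
    have := (Nat.prime_dvd_prime_iff_eq hq hp.out).1 (hq.dvd_of_dvd_pow hd)
    omega
  have hn2 : 2 ≤ n := by
    by_contra hlt
    have hn' : n = 0 ∨ n = 1 := by omega
    rcases hn' with rfl | rfl
    · apply hyC
      have htop : Fg = ⊤ := by
        apply Subgroup.index_eq_one.1
        simpa using hn
      apply mem_centralizer_iff.2
      intro u hu
      have : (⟨u, hu⟩ : U) ∈ Fg := by rw [htop]; trivial
      exact mem_centralizer_singleton_iff.1 (Subgroup.mem_subgroupOf.1 this)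
    · simp only [pow_one] at hmod'
      have h1 : Nat.card Fg * p ≡ Nat.card Fg * 1 [MOD q] := by simpa using hmod'
      have h2 : q ∣ Nat.card Fg * (p - 1) := by
        have := (Nat.modEq_iff_dvd' (by nlinarith [hFpos, hp2])).1 h1.symm
        have he : Nat.card Fg * p - Nat.card Fg * 1 = Nat.card Fg * (p - 1) := by
          rw [Nat.mul_sub]
        rwa [he] at this
      rcases (Nat.Prime.dvd_mul hq).1 h2 with h3 | h3
      · exact hnotq h3
      · have := Nat.le_of_dvd (by omega) h3
        omega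
  have hFU : p ^ 2 * Fset.card ≤ Uset.card := by
    rw [hUcard, hUmul, ← hFcard, mul_comm]
    exact Nat.mul_le_mul_left _ (Nat.pow_le_pow_right hp.out.pos hn2)
  -- the set of representatives
  have hTP : ∀ t ∈ Fset ∪ R1 ∪ R2, t ∈ (P : Subgroup G) := by
    intro t ht
    rcases Finset.mem_union.1 ht with ht | ht
    · rcases Finset.mem_union.1 ht with ht | ht
      · exact hUP (Finset.mem_filter.1 (Finset.mem_filter.1 ht).1).2
      · exact hUP (Finset.mem_filter.1 (Finset.mem_filter.1 (hR1s ht)).1).2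
    · exact (Finset.mem_filter.1 (Finset.mem_filter.1 (hR2s ht)).1).2
  have hrep : ∀ z : G, PElt p z → ∃ t ∈ Fset ∪ R1 ∪ R2, ∃ h : G, t = h * z * h⁻¹ := by
    intro z hz
    obtain ⟨k, hk⟩ := hz
    have hzp : IsPGroup p (zpowers z) := by
      intro w
      obtain ⟨i, hi⟩ := w.2
      refine ⟨k, ?_⟩
      apply Subtype.ext
      simp only [Subgroup.coe_pow, Subgroup.coe_one]
      rw [← hi, ← zpow_natCast, ← zpow_mul, mul_comm, zpow_mul, zpow_natCast, hk, one_zpow]
    obtain ⟨Q, hQ⟩ := hzp.exists_le_sylow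
    obtain ⟨g, hg⟩ := MulAction.exists_smul_eq G Q P
    have hxP : g * z * g⁻¹ ∈ (P : Subgroup G) := by
      rw [← hg, Sylow.smul_def, Sylow.pointwise_smul_def]
      exact ⟨z, hQ (Subgroup.mem_zpowers z), rfl⟩
    set x := g * z * g⁻¹ with hx
    by_cases hxW : x ∈ Wset
    · obtain ⟨t, ht, s, hs, hst⟩ := hR2c x hxW
      refine ⟨t, Finset.mem_union_right _ ht, s * g, ?_⟩
      rw [← hst, hx]; group
    · have : ∃ s ∈ (P : Subgroup G), s⁻¹ * x * s ∈ U := by
        by_contra hcon
        push Not at hcon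
        exact hxW (Finset.mem_filter.2 ⟨Finset.mem_filter.2 ⟨Finset.mem_univ _, hxP⟩, hcon⟩)
      obtain ⟨s, hs, hsU⟩ := this
      set u := s⁻¹ * x * s with hu
      by_cases huc : Commute y u
      · refine ⟨u, Finset.mem_union_left _ (Finset.mem_union_left _ ?_), s⁻¹ * g, ?_⟩
        · exact Finset.mem_filter.2 ⟨Finset.mem_filter.2 ⟨Finset.mem_univ _, hsU⟩, huc⟩
        · rw [hu, hx]; group
      · obtain ⟨t, ht, l, hl⟩ := hR1c u (Finset.mem_filter.2 ⟨Finset.mem_filter.2 ⟨Finset.mem_univ _, hsU⟩, huc⟩)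
        refine ⟨t, Finset.mem_union_left _ (Finset.mem_union_right _ ht), y ^ l * (s⁻¹ * g), ?_⟩
        rw [← hl, hu, hx]; group
  -- surjecting onto the classes
  have hle : Nat.card (MulAction.orbitRel.Quotient G {z : G // PElt p z}) ≤ (Fset ∪ R1 ∪ R2).card := by
    have hphi : Function.Surjective (fun t : (Fset ∪ R1 ∪ R2 : Finset G) =>
        (Quotient.mk'' ⟨t.1, pElt_of_mem_sylow p P (hTP t.1 t.2)⟩ :
          MulAction.orbitRel.Quotient G {z : G // PElt p z})) := by
      intro w
      induction w using Quotient.inductionOn' with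
      | h z =>
        obtain ⟨t, ht, h, hth⟩ := hrep z.1 z.2
        refine ⟨⟨t, ht⟩, ?_⟩
        apply Quotient.sound'
        apply MulAction.orbitRel_apply.2
        refine ⟨h, Subtype.ext ?_⟩
        rw [smul_val]
        exact hth.symm
    have := Nat.card_le_card_of_surjective _ hphi
    have h5 : Nat.card (Fset ∪ R1 ∪ R2 : Finset G) = (Fset ∪ R1 ∪ R2).card := by
      rw [Nat.card_eq_fintype_card, Fintype.card_coe]
    exact this.trans_eq h5
  have hcardT : (Fset ∪ R1 ∪ R2).card ≤ Fset.card + R1.card + R2.card := by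
    refine (Finset.card_union_le _ _).trans ?_
    exact Nat.add_le_add_right (Finset.card_union_le _ _) _
  -- final arithmetic
  have hqp : p + 1 ≤ q := hpq
  have hV : (p + 1) * R1.card ≤ Vset.card := (Nat.mul_le_mul_right _ hqp).trans hR1m
  have hmain : p * (Fset.card + R1.card) ≤ Uset.card := by
    have h1 : (p + 1) * (p * (Fset.card + R1.card)) ≤ (p + 1) * Uset.card := by
      have h2 : Fset.card + Vset.card = Uset.card := hUF
      have h3 : p * ((p + 1) * R1.card) ≤ p * Vset.card := Nat.mul_le_mul_left _ hV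
      nlinarith [hFU, h2, h3]
    exact Nat.le_of_mul_le_mul_left h1 (by omega)
  calc p * Nat.card (MulAction.orbitRel.Quotient G {z : G // PElt p z})
      ≤ p * (Fset.card + R1.card + R2.card) := Nat.mul_le_mul_left _ (hle.trans hcardT)
    _ = p * (Fset.card + R1.card) + p * R2.card := by ring
    _ ≤ Uset.card + Wset.card := Nat.add_le_add hmain hR2m
    _ ≤ Pset.card := by omega
    _ = Nat.card P := hPcard

/-- Reduction to elements of prime-power order. -/
theorem exists_prime_power_not_mem (C : Subgroup G) (n : ℕ) :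
    ∀ g : G, orderOf g = n → g ∉ C → ∃ (q a : ℕ) (m : ℕ), q.Prime ∧ (g ^ m) ^ q ^ a = 1 ∧ g ^ m ∉ C := by
  induction n using Nat.strong_induction_on with
  | _ n ih =>
  intro g hg hgC
  have hn0 : n ≠ 0 := by
    rw [← hg]; exact (orderOf_pos g).ne'
  have hn1 : n ≠ 1 := by
    intro h1
    rw [h1, orderOf_eq_one_iff] at hg
    exact hgC (hg ▸ C.one_mem)
  set q := n.minFac with hq
  have hqp : q.Prime := Nat.minFac_prime hn1
  obtain ⟨a, m, hqm, hnm⟩ := Nat.exists_eq_pow_mul_and_not_dvd hn0 q hqp.ne_one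
  by_cases hm : g ^ m ∈ C
  · -- then `g ^ q ^ a ∉ C`
    have hcop : Nat.Coprime (q ^ a) m := Nat.Coprime.pow_left _ ((hqp.coprime_iff_not_dvd).2 hqm)
    have hg2 : g ^ q ^ a ∉ C := by
      intro h2
      apply hgC
      have hb := Nat.gcd_eq_gcd_ab (q ^ a) m
      rw [hcop] at hb
      have : g = (g ^ q ^ a) ^ (Nat.gcdA (q ^ a) m) * (g ^ m) ^ (Nat.gcdB (q ^ a) m) := by
        rw [← zpow_natCast g (q ^ a), ← zpow_natCast g m, ← zpow_mul, ← zpow_mul, ← zpow_add, ← hb]
        simp
      rw [this]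
      exact C.mul_mem (C.zpow_mem h2 _) (C.zpow_mem hm _)
    have haq : 0 < a := by
      rcases Nat.eq_zero_or_pos a with rfl | h
      · exfalso
        have h1 : n = m := by simpa using hnm
        apply hqm
        rw [← h1]
        exact Nat.minFac_dvd n
      · exact h
    have hord : orderOf (g ^ q ^ a) = m := by
      rw [orderOf_pow' g (pow_ne_zero _ hqp.ne_zero), hg, hnm]
      have : (q ^ a * m).gcd (q ^ a) = q ^ a := Nat.gcd_eq_right (Nat.dvd_mul_right _ _)
      rw [this]
      exact Nat.mul_div_cancel_left _ (pow_pos hqp.pos _)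
    have hlt : m < n := by
      rw [hnm]
      have hm0 : 0 < m := Nat.pos_of_ne_zero (by rintro rfl; simp at hnm; exact hn0 hnm)
      have : 2 ≤ q ^ a := by
        calc 2 ≤ q := hqp.two_le
          _ = q ^ 1 := (pow_one q).symm
          _ ≤ q ^ a := Nat.pow_le_pow_right hqp.pos haq
      nlinarith
    obtain ⟨r, b, l, hr, h1, h2⟩ := ih m hlt _ hord hg2
    refine ⟨r, b, q ^ a * l, hr, ?_, ?_⟩
    · rw [pow_mul]; exact h1
    · rw [pow_mul]; exact h2
  · refine ⟨q, a, m, hqp, ?_, hm⟩
    rw [← pow_mul, mul_comm, ← hnm, ← hg, pow_orderOf_eq_one]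

/-- A conjugation mapping a subgroup of a finite group into itself normalizes it. -/
theorem mem_normalizer_of_conj_mem {H : Subgroup G} {g : G} (h : ∀ x ∈ H, g * x * g⁻¹ ∈ H) :
    g ∈ normalizer (H : Set G) := by
  refine mem_normalizer_iff.2 fun x => ⟨h x, fun hx => ?_⟩
  let f : H → H := fun a => ⟨g * a * g⁻¹, h a a.2⟩
  have hf : Function.Injective f := by
    intro a b hab
    have h1 : g * (a : G) * g⁻¹ = g * (b : G) * g⁻¹ := congrArg Subtype.val hab
    apply Subtype.ext
    simpa using h1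
  obtain ⟨a, ha⟩ := (Finite.injective_iff_surjective.1 hf) ⟨g * x * g⁻¹, hx⟩
  have h1 : g * (a : G) * g⁻¹ = g * x * g⁻¹ := congrArg Subtype.val ha
  have h2 : (a : G) = x := by simpa using h1
  exact h2 ▸ a.2

/-- The Frattini step: a `q`-element acting on `U` can be replaced by one normalizing also a given
Sylow `p`-subgroup of the centralizer of `U`. -/
theorem frattini_step {U : Subgroup G} {y : G} {q a : ℕ} (hq : q.Prime) (hya : y ^ q ^ a = 1)
    (hyN : y ∈ normalizer (U : Set G)) (hyC : y ∉ centralizer (U : Set G))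
    (Q : Sylow p (centralizer (U : Set G))) :
    ∃ (y1 : G) (e : ℕ), y1 ^ q ^ e = 1 ∧ y1 ∈ normalizer (U : Set G) ∧ y1 ∉ centralizer (U : Set G) ∧
      y1 ∈ normalizer (((Q : Subgroup _).map (centralizer (U : Set G)).subtype : Subgroup G) : Set G) := by
  classical
  let C : Subgroup G := centralizer (U : Set G)
  have hconjU : ∀ (g : G), g ∈ normalizer (U : Set G) → ∀ x ∈ U, g * x * g⁻¹ ∈ U := fun g hg x hx =>
    (mem_normalizer_iff.1 hg x).1 hx
  have hconjC : ∀ (g : G), g ∈ normalizer (U : Set G) → ∀ w ∈ C, g * w * g⁻¹ ∈ C := by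
    intro g hg w hw
    apply mem_centralizer_iff.2
    intro u hu
    have h1 : g⁻¹ * u * g ∈ U := by
      have := hconjU g⁻¹ (inv_mem hg) u hu
      simpa using this
    have h2 := mem_centralizer_iff.1 hw _ h1
    calc u * (g * w * g⁻¹) = g * ((g⁻¹ * u * g) * w) * g⁻¹ := by group
      _ = g * (w * (g⁻¹ * u * g)) * g⁻¹ := by rw [h2]
      _ = g * w * g⁻¹ * u := by group
  let φ : MulAut C :=
    { toFun := fun w => ⟨y * w * y⁻¹, hconjC y hyN w w.2⟩
      invFun := fun w => ⟨y⁻¹ * w * y, by
        have := hconjC y⁻¹ (inv_mem hyN) w w.2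
        simpa using this⟩
      left_inv := fun w => by
        apply Subtype.ext
        show y⁻¹ * (y * w * y⁻¹) * y = w
        group
      right_inv := fun w => by
        apply Subtype.ext
        show y * (y⁻¹ * w * y) * y⁻¹ = w
        group
      map_mul' := fun v w => by
        apply Subtype.ext
        show y * (v * w : G) * y⁻¹ = y * v * y⁻¹ * (y * w * y⁻¹)
        group }
  obtain ⟨c, hc⟩ := MulAction.exists_smul_eq C Q (φ • Q)
  -- `n = c⁻¹ y` normalizes the Sylow subgroup
  set n : G := (c : G)⁻¹ * y with hn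
  have hcC : (c : G) ∈ C := c.2
  have hnU : ∀ u ∈ U, n * u * n⁻¹ = y * u * y⁻¹ := by
    intro u hu
    have h1 : y * u * y⁻¹ ∈ U := hconjU y hyN u hu
    have h2 := mem_centralizer_iff.1 hcC _ h1
    calc n * u * n⁻¹ = (c : G)⁻¹ * (y * u * y⁻¹) * c := by rw [hn]; group
      _ = (c : G)⁻¹ * (c * (y * u * y⁻¹)) := by rw [mul_assoc, h2.symm]
      _ = y * u * y⁻¹ := by group
  have hnN : n ∈ normalizer (U : Set G) := by
    apply mem_normalizer_of_conj_mem
    intro u hu
    rw [hnU u hu]
    exact hconjU y hyN u hu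
  have hnQ : n ∈ normalizer (((Q : Subgroup _).map C.subtype : Subgroup G) : Set G) := by
    apply mem_normalizer_of_conj_mem
    rintro _ ⟨w, hw, rfl⟩
    have h1 : φ w ∈ ((φ • Q : Sylow p C) : Subgroup C) := by
      rw [Sylow.pointwise_smul_def]
      exact ⟨w, hw, rfl⟩
    rw [← hc, Sylow.smul_def, Sylow.pointwise_smul_def] at h1
    obtain ⟨v, hv, hvw⟩ := h1
    refine ⟨v, hv, ?_⟩
    have h2 : ((MulAut.conj c • v : C) : G) = y * w * y⁻¹ := congrArg Subtype.val hvw
    have h3 : (c : G) * v * (c : G)⁻¹ = y * w * y⁻¹ := h2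
    simp only [Subgroup.subtype_apply]
    calc (v : G) = (c : G)⁻¹ * ((c : G) * v * (c : G)⁻¹) * c := by group
      _ = (c : G)⁻¹ * (y * w * y⁻¹) * c := by rw [h3]
      _ = n * w * n⁻¹ := by rw [hn]; group
  -- powers of `n` act on `U` as powers of `y`
  have hpow : ∀ (k : ℕ) (u : U), n ^ k * (u : G) * (n ^ k)⁻¹ = y ^ k * (u : G) * (y ^ k)⁻¹ := by
    intro k
    induction k with
    | zero => intro u; simp
    | succ k ih =>
      intro u
      have h1 : y ^ k * (u : G) * (y ^ k)⁻¹ ∈ U := by
        have := hconjU (y ^ k) (pow_mem hyN k) u u.2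
        exact this
      calc n ^ (k + 1) * (u : G) * (n ^ (k + 1))⁻¹ = n * (n ^ k * (u : G) * (n ^ k)⁻¹) * n⁻¹ := by
            rw [pow_succ']; group
        _ = n * (y ^ k * (u : G) * (y ^ k)⁻¹) * n⁻¹ := by rw [ih u]
        _ = y * (y ^ k * (u : G) * (y ^ k)⁻¹) * y⁻¹ := hnU _ h1
        _ = y ^ (k + 1) * (u : G) * (y ^ (k + 1))⁻¹ := by rw [pow_succ']; group
  -- the `q`-part of `n`
  have ha : 0 < a := by
    rcases Nat.eq_zero_or_pos a with rfl | h
    · exfalso
      apply hyC
      have : y = 1 := by simpa using hya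
      rw [this]
      exact one_mem _
    · exact h
  have ho0 : orderOf n ≠ 0 := (orderOf_pos n).ne'
  obtain ⟨e, m, hqm, hom⟩ := Nat.exists_eq_pow_mul_and_not_dvd ho0 q hq.ne_one
  have hcop : Nat.Coprime m (q ^ a) := Nat.Coprime.pow_right _ ((hq.coprime_iff_not_dvd).2 hqm).symm
  have hlt : 1 < q ^ a := Nat.one_lt_pow ha.ne' hq.one_lt
  obtain ⟨s, hs0, hs1⟩ := Nat.chineseRemainder hcop 0 1
  obtain ⟨t, hs⟩ := (Nat.modEq_zero_iff_dvd).1 hs0
  have ht : s % q ^ a = 1 := by
    have := hs1
    unfold Nat.ModEq at this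
    rwa [Nat.mod_eq_of_lt hlt] at this
  have hys : y ^ s = y := by
    have h1 : s = s % q ^ a + q ^ a * (s / q ^ a) := (Nat.mod_add_div s (q ^ a)).symm
    rw [h1, ht, pow_add, pow_mul, hya, one_pow, mul_one, pow_one]
  refine ⟨n ^ s, e, ?_, pow_mem hnN s, ?_, pow_mem hnQ s⟩
  · rw [← pow_mul, hs, show m * t * q ^ e = (q ^ e * m) * t by ring, ← hom, pow_mul, pow_orderOf_eq_one,
      one_pow]
  · intro hmem
    apply hyC
    apply mem_centralizer_iff.2
    intro u hu
    have h1 := hpow s ⟨u, hu⟩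
    rw [hys] at h1
    have h2 := mem_centralizer_iff.1 hmem u hu
    simp only at h1
    have h3 : n ^ s * u * (n ^ s)⁻¹ = u := by
      rw [← h2]; group
    rw [h3] at h1
    calc u * y = (y * u * y⁻¹) * y := by rw [← h1]
      _ = y * u := by group

/-- **Normal `p`-complement from class sizes.**  If `p` is the smallest prime divisor of `#G` and
`p²` divides no conjugacy class size, `G` has a normal `p`-complement. -/
theorem hasNormalPComplement_of_not_sq_dvd
    (hmin : ∀ r : ℕ, r.Prime → r ∣ Nat.card G → p ≤ r)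
    (h : ∀ x : G, ¬ p ^ 2 ∣ (centralizer ({x} : Set G)).index) : HasNormalPComplement p G := by
  classical
  apply Cfsg.Agent.Lib.Transfer.Frobenius.hasNormalPComplement_of_frobeniusCond
  by_contra hF
  unfold Cfsg.Agent.Lib.Transfer.Frobenius.FrobeniusCond at hF
  push Not at hF
  obtain ⟨D, hDp, g, hgN, hgo, hgC⟩ := hF
  let Bad : Subgroup G → Prop := fun U => IsPGroup p U ∧ ∃ (y : G) (q a : ℕ), q.Prime ∧ q ≠ p ∧
    y ^ q ^ a = 1 ∧ y ∈ normalizer (U : Set G) ∧ y ∉ centralizer (U : Set G)
  have hBadD : Bad D := by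
    obtain ⟨q, a, m, hq, h1, h2⟩ := exists_prime_power_not_mem (centralizer (D : Set G)) _ g rfl hgC
    refine ⟨hDp, g ^ m, q, a, hq, ?_, h1, pow_mem hgN m, h2⟩
    intro he
    apply h2
    rw [he] at h1
    have hd : orderOf (g ^ m) ∣ p ^ a := orderOf_dvd_of_pow_eq_one h1
    have hd2 : orderOf (g ^ m) ∣ orderOf g := orderOf_dvd_of_pow_eq_one (by
      rw [← pow_mul, mul_comm, pow_mul, pow_orderOf_eq_one, one_pow])
    have hc : Nat.Coprime (orderOf (g ^ m)) (p ^ a) :=
      Nat.Coprime.coprime_dvd_left hd2 (Nat.Coprime.pow_right _ hgo)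
    have h1' : orderOf (g ^ m) = 1 := Nat.eq_one_of_dvd_coprimes hc dvd_rfl hd
    rw [orderOf_eq_one_iff.1 h1']
    exact one_mem _
  obtain ⟨U, -, hU⟩ := Finite.exists_le_maximal (p := Bad) hBadD
  obtain ⟨hUp, y, q, a, hq, hqp, hya, hyN, hyC⟩ := hU.prop
  obtain ⟨P, hUP⟩ := hUp.exists_le_sylow
  have hy1 : y ≠ 1 := by
    rintro rfl
    exact hyC (one_mem _)
  have hqdvd : q ∣ Nat.card G := by
    have h1 : orderOf y ∣ q ^ a := orderOf_dvd_of_pow_eq_one hya
    obtain ⟨b, -, hb⟩ := (Nat.dvd_prime_pow hq).1 h1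
    have hb0 : b ≠ 0 := by
      rintro rfl
      rw [pow_zero, orderOf_eq_one_iff] at hb
      exact hy1 hb
    have h2 : q ∣ orderOf y := by
      rw [hb]; exact dvd_pow_self q hb0
    exact h2.trans (orderOf_dvd_natCard y)
  have hpq : p < q := lt_of_le_of_ne (hmin q hq hqdvd) hqp.symm
  -- `Z(P) ≤ U`
  have hZ : ∀ z ∈ (P : Subgroup G), (∀ s ∈ (P : Subgroup G), Commute s z) → z ∈ U := by
    intro z hzP hzc
    have hzC : z ∈ centralizer (U : Set G) := mem_centralizer_iff.2 fun u hu => (hzc u (hUP hu))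
    obtain ⟨k, hk⟩ := pElt_of_mem_sylow p P hzP
    have hpz : IsPGroup p (zpowers (⟨z, hzC⟩ : centralizer (U : Set G))) := by
      intro w
      obtain ⟨i, hi⟩ := w.2
      refine ⟨k, ?_⟩
      apply Subtype.ext
      apply Subtype.ext
      have h1 : ((⟨z, hzC⟩ : centralizer (U : Set G)) ^ i) = w.1 := hi
      have h2 : z ^ i = ((w.1 : centralizer (U : Set G)) : G) := by
        rw [← h1]; simp
      simp only [Subgroup.coe_pow, Subgroup.coe_one]
      rw [← h2, ← zpow_natCast, ← zpow_mul, mul_comm, zpow_mul, zpow_natCast, hk, one_zpow]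
    obtain ⟨Q, hQ⟩ := hpz.exists_le_sylow
    obtain ⟨y1, e, he, hy1N, hy1C, hy1Q⟩ := frattini_step p hq hya hyN hyC Q
    set Q1 : Subgroup G := (Q : Subgroup _).map (centralizer (U : Set G)).subtype with hQ1
    have hQ1C : Q1 ≤ centralizer (U : Set G) := by
      rintro _ ⟨w, -, rfl⟩
      exact w.2
    have hQ1p : IsPGroup p Q1 := by
      exact Q.isPGroup'.map _
    have hUQ : U ≤ normalizer (Q1 : Set G) := by
      intro u hu
      apply mem_normalizer_of_conj_mem
      intro x hx
      have : Commute x u := (mem_centralizer_iff.1 (hQ1C hx) u hu).symm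
      have h3 : u * x * u⁻¹ = x := by
        rw [← this.eq]; group
      rwa [h3]
    have hsupP : IsPGroup p (U ⊔ Q1 : Subgroup G) := hUp.to_sup_of_normal_right' hQ1p hUQ
    have hBad : Bad (U ⊔ Q1) := by
      refine ⟨hsupP, y1, q, e, hq, hqp, he, ?_, ?_⟩
      · apply mem_normalizer_of_conj_mem
        intro x hx
        have hle : (U ⊔ Q1 : Subgroup G) ≤ (U ⊔ Q1 : Subgroup G).comap (MulAut.conj y1).toMonoidHom := by
          apply sup_le
          · intro w hw
            exact mem_sup_left ((mem_normalizer_iff.1 hy1N w).1 hw)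
          · intro w hw
            exact mem_sup_right ((mem_normalizer_iff.1 hy1Q w).1 hw)
        exact hle hx
      · intro hc
        apply hy1C
        apply mem_centralizer_iff.2
        intro u hu
        exact mem_centralizer_iff.1 hc u (mem_sup_left hu)
    have hle2 : U ⊔ Q1 ≤ U := hU.2 hBad le_sup_left
    have hzQ : (⟨z, hzC⟩ : centralizer (U : Set G)) ∈ (Q : Subgroup _) := hQ (Subgroup.mem_zpowers _)
    apply hle2
    apply mem_sup_right
    exact ⟨⟨z, hzC⟩, hzQ, rfl⟩
  have h1 := orbits_le p P U hUP hZ hq hpq y hya hyN hyC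
  have h2 := card_sylow_lt_orbits p P h
  omega

end Count

end Cfsg.Agent.Lib.SqfClass.PNilp
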