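/-
Groups all of whose conjugacy class sizes are square-free: inheritance to normal subgroups and
quotients, solvability, and minimal normal subgroups of prime order.
-/
import Mathlib
import Cfsg.Agent.Lib.SqfClass.PNilp
import Cfsg.Agent.Lib.Solvable.Basic

set_option autoImplicit false
set_option linter.unusedSectionVars false
set_option linter.style.longLine false
set_option linter.style.haveILetI false

namespace Cfsg.Agent.Lib.SqfClass.Basic

open Subgroup Cfsg
open Cfsg.Agent.Lib.Solvable.Basic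
open Cfsg.Agent.Lib.SqfClass.PNilp

variable {G : Type*} [Group G]

/-- For `N` normal, the relative index of `C` in `N` divides the index of `C`. -/
theorem relIndex_dvd_index_of_normal' [Finite G] (C N : Subgroup G) [N.Normal] :
    C.relIndex N ∣ C.index := by
  set S := C ⊔ N with hS
  have h1 : C.relIndex S * S.index = C.index := relIndex_mul_index le_sup_left
  have h2 : N.relIndex S * S.index = N.index := relIndex_mul_index le_sup_right
  have h3 : N.relIndex S = N.relIndex C := by rw [hS]; exact relIndex_sup_right C N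
  have h4 : (C ⊓ N).relIndex N * N.index = (C ⊓ N).index := relIndex_mul_index inf_le_right
  have h5 : (N ⊓ C).relIndex C * C.index = (N ⊓ C).index := relIndex_mul_index inf_le_right
  rw [inf_relIndex_right] at h4 h5
  rw [inf_comm N C] at h5
  have hb : 0 < N.relIndex C := Nat.pos_of_ne_zero (Subgroup.index_ne_zero_of_finite (H := N.subgroupOf C))
  have hS0 : 0 < S.index := Nat.pos_of_ne_zero Subgroup.index_ne_zero_of_finite
  have key : C.relIndex N = C.relIndex S := by
    have h6 : C.relIndex N * (N.relIndex C * S.index) = N.relIndex C * (C.relIndex S * S.index) := by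
      rw [← h3, h2, h1, h3, h4, h5]
    have h7 : C.relIndex N * (N.relIndex C * S.index) = C.relIndex S * (N.relIndex C * S.index) := by
      rw [h6]; ring
    exact Nat.eq_of_mul_eq_mul_right (Nat.mul_pos hb hS0) h7
  rw [key]
  exact relIndex_dvd_index_of_le le_sup_left

/-- Class sizes in a normal subgroup divide class sizes in the group. -/
theorem index_cen_dvd_of_normal [Finite G] (N : Subgroup G) [N.Normal] (x : N) :
    (centralizer ({x} : Set N)).index ∣ (centralizer ({(x : G)} : Set G)).index := by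
  have h : centralizer ({x} : Set N) = (centralizer ({(x : G)} : Set G)).subgroupOf N := by
    ext y
    rw [mem_centralizer_singleton_iff, Subgroup.mem_subgroupOf, mem_centralizer_singleton_iff]
    exact ⟨fun h => congrArg Subtype.val h, fun h => Subtype.ext h⟩
  rw [h]
  exact relIndex_dvd_index_of_normal' _ N

/-- Class sizes in a quotient divide class sizes in the group. -/
theorem index_cen_dvd_of_surjective {H : Type*} [Group H] (f : G →* H) (hf : Function.Surjective f) (x : G) :
    (centralizer ({f x} : Set H)).index ∣ (centralizer ({x} : Set G)).index := by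
  rw [← Subgroup.index_comap_of_surjective _ hf]
  apply index_dvd_of_le
  intro y hy
  rw [Subgroup.mem_comap, mem_centralizer_singleton_iff]
  rw [mem_centralizer_singleton_iff] at hy
  rw [← map_mul, ← map_mul, hy]

/-- All class sizes square-free. -/
def SqfClasses (G : Type*) [Group G] : Prop := ∀ x : G, Squarefree (centralizer ({x} : Set G)).index

theorem SqfClasses.normal [Finite G] (h : SqfClasses G) (N : Subgroup G) [N.Normal] : SqfClasses N := fun x =>
  (h x).squarefree_of_dvd (index_cen_dvd_of_normal N x)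

theorem SqfClasses.of_surjective {H : Type*} [Group H] (h : SqfClasses G) (f : G →* H) (hf : Function.Surjective f) :
    SqfClasses H := fun y => by
  obtain ⟨x, rfl⟩ := hf y
  exact (h x).squarefree_of_dvd (index_cen_dvd_of_surjective f hf x)

theorem SqfClasses.not_sq_dvd (h : SqfClasses G) {p : ℕ} (hp : p.Prime) (x : G) :
    ¬ p ^ 2 ∣ (centralizer ({x} : Set G)).index := by
  intro hd
  have := h x
  have h2 : p * p ∣ (centralizer ({x} : Set G)).index := by rwa [← sq]
  exact hp.one_lt.ne' (Nat.isUnit_iff.1 (this p h2))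

/-- A finite group with square-free class sizes is solvable. -/
theorem isSolvable_of_sqf {G : Type*} [Group G] [Finite G] (h : SqfClasses G) : Group.IsSolvable G := by
  induction hn : Nat.card G using Nat.strong_induction_on generalizing G with
  | _ n ih =>
  by_cases h1 : Nat.card G = 1
  · have : Subsingleton G := (Nat.card_eq_one_iff_unique.1 h1).1
    infer_instance
  set p := (Nat.card G).minFac with hp
  have hpp : p.Prime := Nat.minFac_prime h1
  haveI : Fact p.Prime := ⟨hpp⟩
  have hmin : ∀ r : ℕ, r.Prime → r ∣ Nat.card G → p ≤ r := fun r hr hd =>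
    Nat.minFac_le_of_dvd hr.two_le hd
  obtain ⟨P, N, hNn, hc⟩ := hasNormalPComplement_of_not_sq_dvd p hmin (fun x => h.not_sq_dvd hpp x)
  haveI := hNn
  have hP1 : Nat.card P ≠ 1 := by
    rw [P.card_eq_multiplicity]
    have hd : (Nat.card G).factorization p ≠ 0 := by
      have := hpp.factorization_pos_of_dvd Nat.card_pos.ne' (Nat.minFac_dvd _)
      omega
    exact (Nat.one_lt_pow hd hpp.one_lt).ne'
  have hNlt : Nat.card N < n := by
    have hmul : Nat.card N * Nat.card P = Nat.card G := hc.card_mul_card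
    rw [← hn, ← hmul]
    have hP2 : 1 < Nat.card P := lt_of_le_of_ne Nat.card_pos hP1.symm
    have hN0 : 0 < Nat.card N := Nat.card_pos
    nlinarith
  have hNs : Group.IsSolvable N := ih _ hNlt (h.normal N) rfl
  have hQ : Group.IsSolvable (G ⧸ N) := by
    have hpG : IsPGroup p (G ⧸ N) := by
      apply IsPGroup.iff_card.2
      have hidx : Nat.card (G ⧸ N) = Nat.card P := by
        have h0 := hc.card_mul_card
        have h1 : Nat.card N * N.index = Nat.card G := Subgroup.card_mul_index N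
        have hN0 : 0 < Nat.card N := Nat.card_pos
        have h2 : N.index = Nat.card P := Nat.eq_of_mul_eq_mul_left hN0 (by rw [h1, h0])
        exact h2
      rw [hidx, P.card_eq_multiplicity]
      exact ⟨_, rfl⟩
    haveI := hpG.isNilpotent
    infer_instance
  exact Group.isSolvable_of_ker_le_range N.subtype (QuotientGroup.mk' N) (by
    rw [QuotientGroup.ker_mk']
    intro x hx
    exact ⟨⟨x, hx⟩, rfl⟩)

/-- A group is not the union of two proper subgroups. -/
theorem eq_top_or_eq_top_of_union (A B : Subgroup G) (h : ∀ g, g ∈ A ∨ g ∈ B) : A = ⊤ ∨ B = ⊤ := by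
  by_contra hcon
  push Not at hcon
  obtain ⟨hA, hB⟩ := hcon
  obtain ⟨a, ha⟩ : ∃ a, a ∉ A := by
    by_contra hc
    push Not at hc
    exact hA (eq_top_iff.2 fun x _ => hc x)
  obtain ⟨b, hb⟩ : ∃ b, b ∉ B := by
    by_contra hc
    push Not at hc
    exact hB (eq_top_iff.2 fun x _ => hc x)
  have ha' : a ∈ B := (h a).resolve_left ha
  have hb' : b ∈ A := (h b).resolve_right hb
  rcases h (a * b) with hab | hab
  · exact ha ((A.mul_mem_cancel_right hb').1 hab)
  · exact hb ((B.mul_mem_cancel_left ha').1 hab)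

section MinNormal

variable [Finite G] {N : Subgroup G}

/-- The commutator map on an abelian normal subgroup. -/
def phi (hNn : N.Normal) (hc : ∀ x ∈ N, ∀ y ∈ N, x * y = y * x) (g : G) : N →* N where
  toFun u := ⟨g * u * g⁻¹ * (u : G)⁻¹, N.mul_mem (hNn.conj_mem u u.2 g) (N.inv_mem u.2)⟩
  map_one' := by
    apply Subtype.ext
    simp
  map_mul' u v := by
    apply Subtype.ext
    show g * ((u : G) * v) * g⁻¹ * ((u : G) * v)⁻¹ = g * u * g⁻¹ * (u : G)⁻¹ * (g * v * g⁻¹ * (v : G)⁻¹)
    have h1 : g * (v : G) * g⁻¹ * (v : G)⁻¹ ∈ N := N.mul_mem (hNn.conj_mem v v.2 g) (N.inv_mem v.2)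
    have h2 := hc _ (N.inv_mem u.2) _ h1
    calc g * ((u : G) * v) * g⁻¹ * ((u : G) * v)⁻¹
        = g * u * g⁻¹ * (g * v * g⁻¹ * (v : G)⁻¹ * (u : G)⁻¹) := by group
      _ = g * u * g⁻¹ * ((u : G)⁻¹ * (g * v * g⁻¹ * (v : G)⁻¹)) := by rw [h2]
      _ = _ := by group

theorem phi_val (hNn : N.Normal) (hc : ∀ x ∈ N, ∀ y ∈ N, x * y = y * x) (g : G) (u : N) :
    ((phi hNn hc g u : N) : G) = g * u * g⁻¹ * (u : G)⁻¹ := rfl

theorem phi_eq_one_iff (hNn : N.Normal) (hc : ∀ x ∈ N, ∀ y ∈ N, x * y = y * x) (g : G) (u : N) :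
    phi hNn hc g u = 1 ↔ g * u = u * g := by
  constructor
  · intro h
    have h1 : g * (u : G) * g⁻¹ * (u : G)⁻¹ = 1 := congrArg Subtype.val h
    calc g * (u : G) = (g * (u : G) * g⁻¹ * (u : G)⁻¹) * (u * g) := by group
      _ = u * g := by rw [h1, one_mul]
  · intro h
    apply Subtype.ext
    rw [phi_val, h]
    simp

theorem ker_phi (hNn : N.Normal) (hc : ∀ x ∈ N, ∀ y ∈ N, x * y = y * x) (g : G) :
    (phi hNn hc g).ker = (centralizer ({g} : Set G)).subgroupOf N := by
  ext u
  rw [MonoidHom.mem_ker, phi_eq_one_iff, Subgroup.mem_subgroupOf, mem_centralizer_singleton_iff]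
  exact ⟨fun h => h.symm, fun h => h.symm⟩

/-- Under square-free class sizes, `phi g` has image of order at most `q` on an elementary abelian `q`-group. -/
theorem card_range_phi (h : SqfClasses G) (hNn : N.Normal) (hc : ∀ x ∈ N, ∀ y ∈ N, x * y = y * x) {q : ℕ}
    (hq : q.Prime) (hexp : ∀ x ∈ N, x ^ q = 1) (g : G) :
    Nat.card (phi hNn hc g).range = 1 ∨ Nat.card (phi hNn hc g).range = q := by
  haveI : Fact q.Prime := ⟨hq⟩
  haveI := hNn
  have hp : IsPGroup q N := isPGroup_of_pow_eq_one hexp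
  have h1 : Nat.card (phi hNn hc g).range = (phi hNn hc g).ker.index := (Subgroup.index_ker _).symm
  rw [h1]
  obtain ⟨n, hn⟩ := hp.index (phi hNn hc g).ker
  have h2 : (phi hNn hc g).ker.index ∣ (centralizer ({g} : Set G)).index := by
    rw [ker_phi]
    exact relIndex_dvd_index_of_normal' _ N
  have h3 : n ≤ 1 := by
    by_contra hlt
    have h4 : q ^ 2 ∣ (phi hNn hc g).ker.index := by
      rw [hn]
      exact pow_dvd_pow q (by omega)
    exact h.not_sq_dvd hq g (h4.trans h2)
  rw [hn]
  interval_cases n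
  · left; simp
  · right; simp

/-- Two subgroups of prime order sharing a nontrivial element agree. -/
theorem eq_of_card_prime_of_common {K : Type*} [Group K] [Finite K] {q : ℕ} (hq : q.Prime)
    {A B : Subgroup K} (hA : Nat.card A = q) (hB : Nat.card B = q) {a : K} (haA : a ∈ A) (haB : a ∈ B)
    (ha : a ≠ 1) : A = B := by
  have hI : Nat.card (A ⊓ B : Subgroup K) ≠ 1 := by
    intro h1
    have : (A ⊓ B : Subgroup K) = ⊥ := Subgroup.card_eq_one.mp h1
    have h2 : a ∈ (A ⊓ B : Subgroup K) := ⟨haA, haB⟩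
    rw [this, Subgroup.mem_bot] at h2
    exact ha h2
  have hd : Nat.card (A ⊓ B : Subgroup K) ∣ Nat.card A := Subgroup.card_dvd_of_le inf_le_left
  have h3 : Nat.card (A ⊓ B : Subgroup K) = q := by
    rw [hA] at hd
    exact (Nat.dvd_prime hq).1 hd |>.resolve_left hI
  have h4 : A ⊓ B = A := Subgroup.eq_of_le_of_card_ge inf_le_left (by rw [h3, hA])
  have h5 : A ⊓ B = B := Subgroup.eq_of_le_of_card_ge inf_le_right (by rw [h3, hB])
  rw [← h4, h5]

/-- The image of `phi g` as a subgroup of `G`. -/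
def lineOf (hNn : N.Normal) (hc : ∀ x ∈ N, ∀ y ∈ N, x * y = y * x) (g : G) : Subgroup G :=
  (phi hNn hc g).range.map N.subtype

theorem mem_lineOf (hNn : N.Normal) (hc : ∀ x ∈ N, ∀ y ∈ N, x * y = y * x) (g a : G) :
    a ∈ lineOf hNn hc g ↔ ∃ u ∈ N, g * u * g⁻¹ * u⁻¹ = a := by
  constructor
  · rintro ⟨_, ⟨u, rfl⟩, rfl⟩
    exact ⟨u, u.2, rfl⟩
  · rintro ⟨u, hu, rfl⟩
    exact ⟨_, ⟨⟨u, hu⟩, rfl⟩, rfl⟩

theorem card_lineOf (hNn : N.Normal) (hc : ∀ x ∈ N, ∀ y ∈ N, x * y = y * x) (g : G) :
    Nat.card (lineOf hNn hc g) = Nat.card (phi hNn hc g).range :=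
  Nat.card_congr (Subgroup.equivMapOfInjective _ _ N.subtype_injective).toEquiv.symm

theorem lineOf_le (hNn : N.Normal) (hc : ∀ x ∈ N, ∀ y ∈ N, x * y = y * x) (g : G) :
    lineOf hNn hc g ≤ N := by
  rintro _ ⟨_, _, rfl⟩
  exact Subtype.coe_prop _

/-- Under square-free class sizes and elementary abelian `N`, either all of `N` commutes with `g`
or the line has order `q`. -/
theorem card_lineOf_of_ne (h : SqfClasses G) (hNn : N.Normal) (hc : ∀ x ∈ N, ∀ y ∈ N, x * y = y * x) {q : ℕ}
    (hq : q.Prime) (hexp : ∀ x ∈ N, x ^ q = 1) (g : G) {u : G} (hu : u ∈ N) (hgu : g * u * g⁻¹ * u⁻¹ ≠ 1) :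
    Nat.card (lineOf hNn hc g) = q := by
  rw [card_lineOf]
  rcases card_range_phi h hNn hc hq hexp g with h1 | h1
  · exfalso
    have h2 : (phi hNn hc g).range = ⊥ := Subgroup.card_eq_one.mp h1
    have h3 : phi hNn hc g ⟨u, hu⟩ ∈ (phi hNn hc g).range := ⟨_, rfl⟩
    rw [h2, Subgroup.mem_bot] at h3
    exact hgu (congrArg Subtype.val h3)
  · exact h1

/-- The main dichotomy: two elements acting nontrivially on `N` share their line or their fixed points. -/
theorem line_or_fix (h : SqfClasses G) (hNn : N.Normal) (hc : ∀ x ∈ N, ∀ y ∈ N, x * y = y * x) {q : ℕ}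
    (hq : q.Prime) (hexp : ∀ x ∈ N, x ^ q = 1) (x y : G) {u₀ v₀ : G} (hu₀ : u₀ ∈ N) (hv₀ : v₀ ∈ N)
    (hx : x * u₀ * x⁻¹ * u₀⁻¹ ≠ 1) (hy : y * v₀ * y⁻¹ * v₀⁻¹ ≠ 1) :
    lineOf hNn hc x = lineOf hNn hc y ∨ (N ⊓ centralizer ({x} : Set G)) = (N ⊓ centralizer ({y} : Set G)) := by
  classical
  by_contra hcon
  push Not at hcon
  obtain ⟨hL, hH⟩ := hcon
  have hLx := card_lineOf_of_ne h hNn hc hq hexp x hu₀ hx
  have hLy := card_lineOf_of_ne h hNn hc hq hexp y hv₀ hy
  -- the kernels have the same index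
  have hcardH : ∀ (z : G) {w : G}, w ∈ N → z * w * z⁻¹ * w⁻¹ ≠ 1 →
      Nat.card (N ⊓ centralizer ({z} : Set G) : Subgroup G) * q = Nat.card N := by
    intro z w hw hzw
    have h1 := card_lineOf_of_ne h hNn hc hq hexp z hw hzw
    rw [card_lineOf, ← Subgroup.index_ker] at h1
    have h2 := Subgroup.card_mul_index (phi hNn hc z).ker
    rw [h1] at h2
    have h3 : Nat.card (phi hNn hc z).ker = Nat.card (N ⊓ centralizer ({z} : Set G) : Subgroup G) := by
      rw [ker_phi, ← Subgroup.inf_subgroupOf_left]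
      exact Nat.card_congr (Subgroup.subgroupOfEquivOfLe inf_le_left).toEquiv
    rw [← h3]
    exact h2
  have hHx := hcardH x hu₀ hx
  have hHy := hcardH y hv₀ hy
  have hcardeq : Nat.card (N ⊓ centralizer ({x} : Set G) : Subgroup G) = Nat.card (N ⊓ centralizer ({y} : Set G) : Subgroup G) := by
    have : Nat.card (N ⊓ centralizer ({x} : Set G) : Subgroup G) * q = Nat.card (N ⊓ centralizer ({y} : Set G) : Subgroup G) * q := by
      rw [hHx, hHy]
    exact Nat.eq_of_mul_eq_mul_right hq.pos this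
  have hnotle1 : ¬ (N ⊓ centralizer ({y} : Set G) : Subgroup G) ≤ N ⊓ centralizer ({x} : Set G) := fun hle =>
    hH (Subgroup.eq_of_le_of_card_ge hle (by rw [hcardeq])).symm
  have hnotle2 : ¬ (N ⊓ centralizer ({x} : Set G) : Subgroup G) ≤ N ⊓ centralizer ({y} : Set G) := fun hle =>
    hH (Subgroup.eq_of_le_of_card_ge hle (by rw [hcardeq]))
  obtain ⟨u, huI, hunot⟩ := SetLike.not_le_iff_exists.1 hnotle1
  obtain ⟨v, hvI, hvnot⟩ := SetLike.not_le_iff_exists.1 hnotle2
  have huN : u ∈ N := huI.1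
  have hvN : v ∈ N := hvI.1
  have huC : u * y = y * u := mem_centralizer_singleton_iff.1 huI.2
  have hvC : v * x = x * v := mem_centralizer_singleton_iff.1 hvI.2
  have hu1 : x * u * x⁻¹ * u⁻¹ ≠ 1 := by
    intro h1
    apply hunot
    refine ⟨huN, ?_⟩
    show u ∈ centralizer ({x} : Set G)
    rw [mem_centralizer_singleton_iff]
    have : x * u = u * x := by
      calc x * u = (x * u * x⁻¹ * u⁻¹) * (u * x) := by group
        _ = u * x := by rw [h1, one_mul]
    exact this.symm
  have hv1 : y * v * y⁻¹ * v⁻¹ ≠ 1 := by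
    intro h1
    apply hvnot
    refine ⟨hvN, ?_⟩
    show v ∈ centralizer ({y} : Set G)
    rw [mem_centralizer_singleton_iff]
    have : y * v = v * y := by
      calc y * v = (y * v * y⁻¹ * v⁻¹) * (v * y) := by group
        _ = v * y := by rw [h1, one_mul]
    exact this.symm
  -- the value at `u`
  have hU : (x * y) * u * (x * y)⁻¹ * u⁻¹ = x * u * x⁻¹ * u⁻¹ := by
    have h1 : y * u * y⁻¹ = u := by rw [← huC]; group
    calc (x * y) * u * (x * y)⁻¹ * u⁻¹ = x * (y * u * y⁻¹) * x⁻¹ * u⁻¹ := by group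
      _ = _ := by rw [h1]
  have hLxy : Nat.card (lineOf hNn hc (x * y)) = q :=
    card_lineOf_of_ne h hNn hc hq hexp (x * y) huN (by rw [hU]; exact hu1)
  have hE1 : lineOf hNn hc (x * y) = lineOf hNn hc x :=
    eq_of_card_prime_of_common hq hLxy hLx (a := x * u * x⁻¹ * u⁻¹)
      ((mem_lineOf _ _ _ _).2 ⟨u, huN, hU⟩) ((mem_lineOf _ _ _ _).2 ⟨u, huN, rfl⟩) hu1
  -- the value at `v`
  set b := y * v * y⁻¹ * v⁻¹ with hb
  have hV : (x * y) * v * (x * y)⁻¹ * v⁻¹ = x * b * x⁻¹ := by
    have h1 : x * v * x⁻¹ = v := by rw [← hvC]; group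
    calc (x * y) * v * (x * y)⁻¹ * v⁻¹ = x * (y * v * y⁻¹) * x⁻¹ * v⁻¹ := by group
      _ = x * (y * v * y⁻¹) * (v⁻¹ * x⁻¹) * (x * v * x⁻¹) * v⁻¹ := by group
      _ = x * (y * v * y⁻¹) * (v⁻¹ * x⁻¹) := by rw [h1]; group
      _ = _ := by rw [hb]; group
  have hbN : b ∈ N := N.mul_mem (hNn.conj_mem v hvN y) (N.inv_mem hvN)
  have hbx : x * b * x⁻¹ ∈ lineOf hNn hc x := by
    rw [← hE1]
    exact (mem_lineOf _ _ _ _).2 ⟨v, hvN, hV⟩
  have hb2 : x * b * x⁻¹ * b⁻¹ ∈ lineOf hNn hc x := (mem_lineOf _ _ _ _).2 ⟨b, hbN, rfl⟩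
  have hbL : b ∈ lineOf hNn hc x := by
    have := (lineOf hNn hc x).mul_mem ((lineOf hNn hc x).inv_mem hb2) hbx
    have h2 : (x * b * x⁻¹ * b⁻¹)⁻¹ * (x * b * x⁻¹) = b := by group
    rwa [h2] at this
  exact hL (eq_of_card_prime_of_common hq hLx hLy hbL ((mem_lineOf _ _ _ _).2 ⟨v, hvN, rfl⟩) hv1)

/-- A minimal normal subgroup of a group with square-free class sizes has prime order. -/
theorem card_prime_of_isMinNormal [Group.IsSolvable G] (h : SqfClasses G) (hN : IsMinNormal N) :
    (Nat.card N).Prime := by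
  classical
  have hc := isMinNormal_comm hN
  obtain ⟨q, hq, hexp⟩ := isMinNormal_exponent hN
  obtain ⟨hNn, hN1, hmin⟩ := hN
  by_cases hcen : ∀ x : G, ∀ u ∈ N, x * u * x⁻¹ * u⁻¹ = 1
  · -- central case
    haveI : Nontrivial N := (Subgroup.nontrivial_iff_ne_bot N).mpr hN1
    obtain ⟨a', ha'⟩ := exists_ne (1 : N)
    obtain ⟨a, haN, ha1⟩ : ∃ a ∈ N, a ≠ (1 : G) := ⟨a', a'.2, fun h1 => ha' (Subtype.ext h1)⟩
    have hzn : (zpowers a).Normal := by
      constructor
      intro n hn g
      obtain ⟨k, rfl⟩ := mem_zpowers_iff.1 hn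
      have h1 : g * a * g⁻¹ = a := by
        have := hcen g a haN
        calc g * a * g⁻¹ = (g * a * g⁻¹ * a⁻¹) * a := by group
          _ = a := by rw [this, one_mul]
      rw [← MulAut.conj_apply, map_zpow, MulAut.conj_apply, h1]
      exact zpow_mem (mem_zpowers a) k
    have hzle : zpowers a ≤ N := (zpowers_le).2 haN
    have hzeq : zpowers a = N := by
      rcases hmin _ hzn hzle with h1 | h1
      · exact absurd (zpowers_eq_bot.1 h1) ha1
      · exact h1
    haveI : Fact q.Prime := ⟨hq⟩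
    have hord : orderOf a = q := orderOf_eq_prime (hexp a haN) ha1
    rw [← hzeq, Nat.card_zpowers, hord]
    exact hq
  · push Not at hcen
    obtain ⟨x, u₀, hu₀, hx⟩ := hcen
    have hnorm : ∀ g : G, g ∈ normalizer (lineOf hNn hc x : Set G) ∨
        g ∈ normalizer ((N ⊓ centralizer ({x} : Set G) : Subgroup G) : Set G) := by
      intro g
      have hg1 : (g * x * g⁻¹) * (g * u₀ * g⁻¹) * (g * x * g⁻¹)⁻¹ * (g * u₀ * g⁻¹)⁻¹ ≠ 1 := by
        intro h1
        apply hx
        have h2 : (g * x * g⁻¹) * (g * u₀ * g⁻¹) * (g * x * g⁻¹)⁻¹ * (g * u₀ * g⁻¹)⁻¹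
            = g * (x * u₀ * x⁻¹ * u₀⁻¹) * g⁻¹ := by group
        rw [h2] at h1
        have h3 : g * (x * u₀ * x⁻¹ * u₀⁻¹) = g := by
          calc g * (x * u₀ * x⁻¹ * u₀⁻¹) = g * (x * u₀ * x⁻¹ * u₀⁻¹) * g⁻¹ * g := by group
            _ = g := by rw [h1, one_mul]
        simpa using h3
      rcases line_or_fix h hNn hc hq hexp x (g * x * g⁻¹) hu₀ (hNn.conj_mem u₀ hu₀ g) hx hg1 with h1 | h1
      · left
        apply PNilp.mem_normalizer_of_conj_mem
        intro a ha
        rw [h1, mem_lineOf]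
        obtain ⟨u, hu, rfl⟩ := (mem_lineOf _ _ _ _).1 ha
        exact ⟨g * u * g⁻¹, hNn.conj_mem u hu g, by group⟩
      · right
        apply PNilp.mem_normalizer_of_conj_mem
        intro a ha
        have ha' : a ∈ (N ⊓ centralizer ({x} : Set G) : Subgroup G) := ha
        have haN : a ∈ N := ha'.1
        have haC : a * x = x * a := mem_centralizer_singleton_iff.1 ha'.2
        rw [h1]
        refine ⟨hNn.conj_mem a haN g, ?_⟩
        show g * a * g⁻¹ ∈ centralizer ({g * x * g⁻¹} : Set G)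
        rw [mem_centralizer_singleton_iff]
        calc g * a * g⁻¹ * (g * x * g⁻¹) = g * (a * x) * g⁻¹ := by group
          _ = g * (x * a) * g⁻¹ := by rw [haC]
          _ = _ := by group
    have hLn := card_lineOf_of_ne h hNn hc hq hexp x hu₀ hx
    rcases eq_top_or_eq_top_of_union _ _ hnorm with h1 | h1
    · have hLnorm : (lineOf hNn hc x).Normal := normalizer_eq_top_iff.1 h1
      have hL0 : lineOf hNn hc x ≠ ⊥ := by
        intro h0
        rw [h0] at hLn
        simp at hLn
        exact hq.one_lt.ne hLn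
      rcases hmin _ hLnorm (lineOf_le hNn hc x) with h2 | h2
      · exact absurd h2 hL0
      · rw [← h2, hLn]
        exact hq
    · have hHnorm : (N ⊓ centralizer ({x} : Set G) : Subgroup G).Normal := normalizer_eq_top_iff.1 h1
      rcases hmin _ hHnorm inf_le_left with h2 | h2
      · -- the map is injective
        have hinj : Function.Injective (phi hNn hc x) := by
          rw [injective_iff_map_eq_one]
          intro a ha
          have h3 := (phi_eq_one_iff hNn hc x a).1 ha
          have h4 : (a : G) ∈ (N ⊓ centralizer ({x} : Set G) : Subgroup G) := by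
            refine ⟨a.2, ?_⟩
            show (a : G) ∈ centralizer ({x} : Set G)
            rw [mem_centralizer_singleton_iff]
            exact h3.symm
          rw [h2, Subgroup.mem_bot] at h4
          exact Subtype.ext h4
        have h5 : Nat.card N = Nat.card (phi hNn hc x).range :=
          Nat.card_congr (MonoidHom.ofInjective hinj).toEquiv
        rw [h5, ← card_lineOf, hLn]
        exact hq
      · exfalso
        apply hx
        have h3 : u₀ ∈ (N ⊓ centralizer ({x} : Set G) : Subgroup G) := by rw [h2]; exact hu₀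
        have h4 : u₀ * x = x * u₀ := mem_centralizer_singleton_iff.1 h3.2
        rw [← h4]
        group

end MinNormal

end Cfsg.Agent.Lib.SqfClass.Basic
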