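/-
`p`-groups all of whose class sizes are at most `p`: Knoche's theorem `#A' ≤ p`.
-/
import Mathlib
import Cfsg.Agent.Lib.SqfClass.Basic

set_option autoImplicit false
set_option linter.unusedSectionVars false
set_option linter.style.longLine false
set_option linter.style.haveILetI false

namespace Cfsg.Agent.Lib.SqfClass.Knoche

open Subgroup Cfsg
open Cfsg.Agent.Lib.SqfClass.Basic

variable {G : Type*} [Group G]

/-- If `H` has index `1` or `p` in a finite `p`-group, commutators lie in `H`. -/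
theorem comm_mem_of_index {p : ℕ} [Fact p.Prime] {A : Type*} [Group A] [Finite A] (hA : IsPGroup p A)
    (H : Subgroup A) (hH : H.index = 1 ∨ H.index = p) (a b : A) : a * b * a⁻¹ * b⁻¹ ∈ H := by
  have hp : p.Prime := Fact.out
  rcases hH with h1 | h1
  · rw [index_eq_one.1 h1]; trivial
  · have hcard : ∃ n, Nat.card A = p ^ n := IsPGroup.iff_card.1 hA
    obtain ⟨n, hn⟩ := hcard
    have hn0 : n ≠ 0 := by
      rintro rfl
      have h2 : H.index ∣ Nat.card A := H.index_dvd_card
      rw [hn, h1, pow_zero] at h2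
      exact hp.one_lt.ne' (Nat.dvd_one.1 h2)
    have hminfac : H.index = (Nat.card A).minFac := by
      rw [hn, h1, Nat.Prime.pow_minFac hp hn0]
    haveI : H.Normal := normal_of_index_eq_minFac_card hminfac
    have hcQ : Nat.card (A ⧸ H) = p := h1
    haveI : Fact (Nat.card (A ⧸ H)).Prime := ⟨by rw [hcQ]; exact hp⟩
    haveI : IsCyclic (A ⧸ H) := isCyclic_of_prime_card rfl
    letI := IsCyclic.commGroup (α := A ⧸ H)
    have hc : ((a : A ⧸ H)) * (b : A ⧸ H) = (b : A ⧸ H) * (a : A ⧸ H) := mul_comm _ _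
    have h2 : ((a * b * a⁻¹ * b⁻¹ : A) : A ⧸ H) = 1 := by
      show (a : A ⧸ H) * (b : A ⧸ H) * (a : A ⧸ H)⁻¹ * (b : A ⧸ H)⁻¹ = 1
      rw [hc]
      group
    exact (QuotientGroup.eq_one_iff _).1 h2

/-- Bezout for powers. -/
theorem exists_zpow_pow_eq (y : G) {m n : ℕ} (hm : y ^ m = 1) (hc : Nat.Coprime n m) :
    ∃ s : ℤ, (y ^ n) ^ s = y := by
  refine ⟨Nat.gcdA n m, ?_⟩
  have h1 := Nat.gcd_eq_gcd_ab n m
  rw [hc.gcd_eq_one] at h1
  have h2 : y ^ ((n : ℤ) * Nat.gcdA n m + m * Nat.gcdB n m) = y := by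
    rw [← h1]; simp
  rw [zpow_add, zpow_mul, zpow_mul, zpow_natCast, zpow_natCast, hm, one_zpow, mul_one] at h2
  exact h2

/-- `p`-groups in which every centralizer has index at most `p` have derived length data:
commutators are central. -/
theorem comm_central {p : ℕ} [Fact p.Prime] {A : Type*} [Group A] [Finite A] (hA : IsPGroup p A)
    (hc : ∀ u : A, (centralizer ({u} : Set A)).index = 1 ∨ (centralizer ({u} : Set A)).index = p) (a b u : A) :
    (a * b * a⁻¹ * b⁻¹) * u = u * (a * b * a⁻¹ * b⁻¹) :=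
  mem_centralizer_singleton_iff.1 (comm_mem_of_index hA _ (hc u) a b)

/-- The commutator map `v ↦ [u, v]` when commutators are central. -/
def psi {A : Type*} [Group A] (hz : ∀ a b u : A, (a * b * a⁻¹ * b⁻¹) * u = u * (a * b * a⁻¹ * b⁻¹)) (u : A) : A →* A where
  toFun v := u * v * u⁻¹ * v⁻¹
  map_one' := by simp
  map_mul' v w := by
    have h1 := hz u w v⁻¹
    calc u * (v * w) * u⁻¹ * (v * w)⁻¹ = u * v * u⁻¹ * ((u * w * u⁻¹ * w⁻¹) * v⁻¹) := by group
      _ = u * v * u⁻¹ * (v⁻¹ * (u * w * u⁻¹ * w⁻¹)) := by rw [h1]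
      _ = _ := by group

theorem psi_apply {A : Type*} [Group A] (hz : ∀ a b u : A, (a * b * a⁻¹ * b⁻¹) * u = u * (a * b * a⁻¹ * b⁻¹))
    (u v : A) : psi hz u v = u * v * u⁻¹ * v⁻¹ := rfl

theorem psi_eq_one_iff {A : Type*} [Group A] (hz : ∀ a b u : A, (a * b * a⁻¹ * b⁻¹) * u = u * (a * b * a⁻¹ * b⁻¹))
    (u v : A) : psi hz u v = 1 ↔ v * u = u * v := by
  rw [psi_apply]
  constructor
  · intro h
    have : u * v = (u * v * u⁻¹ * v⁻¹) * (v * u) := by group
    rw [this, h, one_mul]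
  · intro h
    have : u * v * u⁻¹ * v⁻¹ = (u * v) * (v * u)⁻¹ := by group
    rw [this, ← h]
    group

theorem psi_mul_left {A : Type*} [Group A] (hz : ∀ a b u : A, (a * b * a⁻¹ * b⁻¹) * u = u * (a * b * a⁻¹ * b⁻¹))
    (u w s : A) : psi hz (u * w) s = psi hz u s * psi hz w s := by
  rw [psi_apply, psi_apply, psi_apply]
  have h1 := hz w s (u * s * u⁻¹ * s⁻¹)
  calc u * w * s * (u * w)⁻¹ * s⁻¹ = u * (w * s * w⁻¹ * s⁻¹) * s * u⁻¹ * s⁻¹ := by group
    _ = u * ((w * s * w⁻¹ * s⁻¹) * (s * u⁻¹ * s⁻¹ * u)) * u⁻¹ := by group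
    _ = (u * s * u⁻¹ * s⁻¹)⁻¹ * (u * s * u⁻¹ * s⁻¹) * (u * ((w * s * w⁻¹ * s⁻¹) * (s * u⁻¹ * s⁻¹ * u)) * u⁻¹) := by group
    _ = (u * s * u⁻¹ * s⁻¹) * (w * s * w⁻¹ * s⁻¹) := by
      have h2 := hz w s u
      have h3 : u * (w * s * w⁻¹ * s⁻¹) * u⁻¹ = w * s * w⁻¹ * s⁻¹ := by
        rw [← h2]; group
      calc _ = u * (w * s * w⁻¹ * s⁻¹) * u⁻¹ * (u * (s * u⁻¹ * s⁻¹ * u) * u⁻¹) := by group
        _ = (w * s * w⁻¹ * s⁻¹) * (u * (s * u⁻¹ * s⁻¹ * u) * u⁻¹) := by rw [h3]
        _ = (w * s * w⁻¹ * s⁻¹) * (u * s * u⁻¹ * s⁻¹) := by group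
        _ = _ := by rw [← h1]

theorem psi_swap {A : Type*} [Group A] (hz : ∀ a b u : A, (a * b * a⁻¹ * b⁻¹) * u = u * (a * b * a⁻¹ * b⁻¹))
    (u s : A) : psi hz s u = (psi hz u s)⁻¹ := by
  rw [psi_apply, psi_apply]
  group

theorem ker_psi {A : Type*} [Group A] (hz : ∀ a b u : A, (a * b * a⁻¹ * b⁻¹) * u = u * (a * b * a⁻¹ * b⁻¹))
    (u : A) : (psi hz u).ker = centralizer ({u} : Set A) := by
  ext v
  rw [MonoidHom.mem_ker, psi_eq_one_iff, mem_centralizer_singleton_iff]

/-- **Knoche's theorem**: a finite `p`-group all of whose centralizers have index at most `p` has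
derived subgroup of order at most `p`. -/
theorem card_commutator_of_index {p : ℕ} [Fact p.Prime] {A : Type*} [Group A] [Finite A] (hA : IsPGroup p A)
    (hc : ∀ u : A, (centralizer ({u} : Set A)).index = 1 ∨ (centralizer ({u} : Set A)).index = p) :
    Nat.card (commutator A) = 1 ∨ Nat.card (commutator A) = p := by
  classical
  have hp : p.Prime := Fact.out
  have hz := comm_central hA hc
  have hcard : ∀ u s : A, psi hz u s ≠ 1 → Nat.card (psi hz u).range = p := by
    intro u s hs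
    have h1 : Nat.card (psi hz u).range = (centralizer ({u} : Set A)).index := by
      rw [← Subgroup.index_ker, ker_psi]
    rw [h1]
    refine (hc u).resolve_left ?_
    intro h2
    rw [h2] at h1
    have h3 : (psi hz u).range = ⊥ := Subgroup.card_eq_one.mp h1
    have h4 : psi hz u s ∈ (psi hz u).range := ⟨s, rfl⟩
    rw [h3, Subgroup.mem_bot] at h4
    exact hs h4
  have hkercard : ∀ u s : A, psi hz u s ≠ 1 → Nat.card (psi hz u).ker * p = Nat.card A := by
    intro u s hs
    have h1 := Subgroup.card_mul_index (psi hz u).ker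
    rw [Subgroup.index_ker, hcard u s hs] at h1
    exact h1
  have hlines : ∀ u w s₁ s₂ : A, psi hz u s₁ ≠ 1 → psi hz w s₂ ≠ 1 → (psi hz u).range = (psi hz w).range := by
    intro u w s₁ s₂ h1 h2
    have hU := hcard u s₁ h1
    have hW := hcard w s₂ h2
    by_cases hK : (psi hz u).ker = (psi hz w).ker
    · have hw1 : psi hz w s₁ ≠ 1 := by
        intro h3
        have h4 : s₁ ∈ (psi hz w).ker := h3
        rw [← hK] at h4
        exact h1 h4
      have hs1 : psi hz s₁ u ≠ 1 := by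
        rw [psi_swap]
        exact fun h3 => h1 (inv_eq_one.1 h3)
      have hs2 : psi hz s₁ w ≠ 1 := by
        rw [psi_swap]
        exact fun h3 => hw1 (inv_eq_one.1 h3)
      have hS := hcard s₁ u hs1
      have e1 : (psi hz u).range = (psi hz s₁).range :=
        eq_of_card_prime_of_common hp hU hS (a := psi hz s₁ u)
          (by rw [psi_swap]; exact inv_mem ⟨s₁, rfl⟩) ⟨u, rfl⟩ hs1
      have e2 : (psi hz w).range = (psi hz s₁).range :=
        eq_of_card_prime_of_common hp hW hS (a := psi hz s₁ w)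
          (by rw [psi_swap]; exact inv_mem ⟨s₁, rfl⟩) ⟨w, rfl⟩ hs2
      rw [e1, e2]
    · have hce : Nat.card (psi hz u).ker = Nat.card (psi hz w).ker := by
        have := (hkercard u s₁ h1).trans (hkercard w s₂ h2).symm
        exact Nat.eq_of_mul_eq_mul_right hp.pos this
      have hn1 : ¬ (psi hz u).ker ≤ (psi hz w).ker := fun hle =>
        hK (Subgroup.eq_of_le_of_card_ge hle (by rw [hce]))
      have hn2 : ¬ (psi hz w).ker ≤ (psi hz u).ker := fun hle =>
        hK (Subgroup.eq_of_le_of_card_ge hle (by rw [hce])).symm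
      obtain ⟨s, hs, hsn⟩ := SetLike.not_le_iff_exists.1 hn1
      obtain ⟨t, ht, htn⟩ := SetLike.not_le_iff_exists.1 hn2
      have hsu : psi hz u s = 1 := hs
      have htw : psi hz w t = 1 := ht
      have hsw : psi hz w s ≠ 1 := hsn
      have htu : psi hz u t ≠ 1 := htn
      have v1 : psi hz (u * w) s = psi hz w s := by rw [psi_mul_left, hsu, one_mul]
      have v2 : psi hz (u * w) t = psi hz u t := by rw [psi_mul_left, htw, mul_one]
      have hS := hcard (u * w) s (by rw [v1]; exact hsw)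
      have e1 : (psi hz u).range = (psi hz (u * w)).range :=
        eq_of_card_prime_of_common hp hU hS (a := psi hz u t) ⟨t, rfl⟩ ⟨t, v2⟩ htu
      have e2 : (psi hz w).range = (psi hz (u * w)).range :=
        eq_of_card_prime_of_common hp hW hS (a := psi hz w s) ⟨s, rfl⟩ ⟨s, v1⟩ hsw
      rw [e1, e2]
  by_cases hall : ∀ u v : A, psi hz u v = 1
  · left
    have : commutator A = ⊥ := by
      rw [commutator_def, eq_bot_iff, Subgroup.commutator_le]
      intro u _ v _
      rw [Subgroup.mem_bot]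
      exact hall u v
    rw [this]
    simp
  · push Not at hall
    obtain ⟨u₀, v₀, h0⟩ := hall
    have hle : commutator A ≤ (psi hz u₀).range := by
      rw [commutator_def, Subgroup.commutator_le]
      intro u _ v _
      show psi hz u v ∈ _
      by_cases h1 : psi hz u v = 1
      · rw [h1]
        exact one_mem _
      · rw [hlines u₀ u v₀ v h0 h1]
        exact ⟨v, rfl⟩
    have hd := Subgroup.card_dvd_of_le hle
    rw [hcard u₀ v₀ h0] at hd
    exact (Nat.dvd_prime hp).1 hd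

end Cfsg.Agent.Lib.SqfClass.Knoche
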